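import Groth.Agent.L02.Grpd.Algebra
import Mathlib.CategoryTheory.Category.Basic

/-!
# The category of `T`-valued points of a groupoid scheme
-/

set_option autoImplicit false
set_option backward.isDefEq.respectTransparency false
set_option backward.isDefEq.respectTransparency.types false

universe u

open AlgebraicGeometry CategoryTheory CategoryTheory.Limits

namespace Groth.L24.SubQuot

variable {S : Scheme.{u}} (G : Grpd.GroupoidScheme S)

/-- A `T`-valued object of a groupoid scheme. -/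
structure Pt (T : Scheme.{u}) where
  /-- the point -/
  pt : T ⟶ G.U

variable {G} {T : Scheme.{u}}

/-- The arrows with target `a` and source `b`. -/
structure Arr (a b : Pt G T) : Type u where
  /-- the underlying element -/
  val : T ⟶ G.R
  t_eq : val ≫ G.t = a.pt
  s_eq : val ≫ G.s = b.pt

noncomputable instance : Category.{u} (Pt G T) where
  Hom a b := Arr a b
  id a := ⟨a.pt ≫ G.e, by rw [Category.assoc, G.e_t, Category.comp_id],
    by rw [Category.assoc, G.e_s, Category.comp_id]⟩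
  comp f g := ⟨L02.Grpd.mul G (Arr.val f) (Arr.val g) ((Arr.s_eq f).trans (Arr.t_eq g).symm),
    (L02.Grpd.mul_t G _ _ _).trans (Arr.t_eq f), (L02.Grpd.mul_s G _ _ _).trans (Arr.s_eq g)⟩
  id_comp := fun {a b} ⟨f, ht, hs⟩ => by
    obtain ⟨a⟩ := a
    obtain rfl : f ≫ G.t = a := ht
    congr 1
    exact (L02.Grpd.mul_congr G (Category.assoc _ _ _) rfl _
      (by rw [Category.assoc, Category.assoc, G.e_s, Category.comp_id])).trans (G.e_comp f)
  comp_id := fun {a b} ⟨f, ht, hs⟩ => by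
    obtain ⟨b⟩ := b
    obtain rfl : f ≫ G.s = b := hs
    congr 1
    exact (L02.Grpd.mul_congr G rfl (Category.assoc _ _ _) _
      (by rw [Category.assoc, Category.assoc, G.e_t, Category.comp_id])).trans (G.comp_e f)
  assoc f g h := by
    show Arr.mk _ _ _ = Arr.mk _ _ _
    congr 1
    exact L02.Grpd.mul_assoc' G _ _ _ _ _

/-- The element underlying an arrow. -/
def el {a b : Pt G T} (f : a ⟶ b) : T ⟶ G.R := Arr.val f

@[ext] theorem hom_ext {a b : Pt G T} {f g : a ⟶ b} (h : el f = el g) : f = g := by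
  change Arr a b at f g
  obtain ⟨f, _, _⟩ := f
  obtain ⟨g, _, _⟩ := g
  obtain rfl : f = g := h
  rfl

theorem hom_t {a b : Pt G T} (f : a ⟶ b) : el f ≫ G.t = a.pt := Arr.t_eq f

theorem hom_s {a b : Pt G T} (f : a ⟶ b) : el f ≫ G.s = b.pt := Arr.s_eq f

theorem el_id (a : Pt G T) : el (𝟙 a : a ⟶ a) = a.pt ≫ G.e := rfl

theorem el_comp {a b c : Pt G T} (f : a ⟶ b) (g : b ⟶ c) :
    el (f ≫ g) = L02.Grpd.mul G (el f) (el g) ((hom_s f).trans (hom_t g).symm) := rfl

/-- An arrow with given endpoints. -/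
def mkHom (a b : Pt G T) (r : T ⟶ G.R) (ht : r ≫ G.t = a.pt) (hs : r ≫ G.s = b.pt) : a ⟶ b := ⟨r, ht, hs⟩

theorem el_mkHom (a b : Pt G T) (r : T ⟶ G.R) (ht : r ≫ G.t = a.pt) (hs : r ≫ G.s = b.pt) :
    el (mkHom a b r ht hs) = r := rfl

/-- The inverse arrow. -/
noncomputable def invHom {a b : Pt G T} (f : a ⟶ b) : b ⟶ a :=
  mkHom b a (el f ≫ G.i) (by rw [Category.assoc, G.i_t, hom_s]) (by rw [Category.assoc, G.i_s, hom_t])

theorem el_invHom {a b : Pt G T} (f : a ⟶ b) : el (invHom f) = el f ≫ G.i := rfl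

theorem comp_invHom {a b : Pt G T} (f : a ⟶ b) : f ≫ invHom f = 𝟙 a := by
  apply hom_ext
  rw [el_comp, el_id, ← hom_t f, Category.assoc]
  exact G.comp_i (el f)

theorem invHom_comp {a b : Pt G T} (f : a ⟶ b) : invHom f ≫ f = 𝟙 b := by
  apply hom_ext
  rw [el_comp, el_id, ← hom_s f, Category.assoc]
  exact G.i_comp (el f)

theorem invHom_unique {a b : Pt G T} (f : a ⟶ b) (g : b ⟶ a) (h : g ≫ f = 𝟙 b) : g = invHom f := by
  rw [← Category.comp_id g, ← comp_invHom f, ← Category.assoc, h, Category.id_comp]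

/-- Pulling back a point. -/
def res {T' : Scheme.{u}} (k : T' ⟶ T) (a : Pt G T) : Pt G T' := ⟨k ≫ a.pt⟩

theorem res_pt {T' : Scheme.{u}} (k : T' ⟶ T) (a : Pt G T) : (res k a).pt = k ≫ a.pt := rfl

/-- Pulling back an arrow. -/
def resHom {T' : Scheme.{u}} (k : T' ⟶ T) {a b : Pt G T} (f : a ⟶ b) : res k a ⟶ res k b :=
  mkHom _ _ (k ≫ el f) (by rw [Category.assoc, hom_t, res_pt]) (by rw [Category.assoc, hom_s, res_pt])

theorem el_resHom {T' : Scheme.{u}} (k : T' ⟶ T) {a b : Pt G T} (f : a ⟶ b) : el (resHom k f) = k ≫ el f := rfl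

theorem resHom_comp {T' : Scheme.{u}} (k : T' ⟶ T) {a b c : Pt G T} (f : a ⟶ b) (g : b ⟶ c) :
    resHom k (f ≫ g) = resHom k f ≫ resHom k g :=
  hom_ext (L02.Grpd.comp_mul G k (el f) (el g) _)

variable (G) in
/-- The arrow underlying an element of the arrow scheme. -/
def ofArrow (r : T ⟶ G.R) : (⟨r ≫ G.t⟩ : Pt G T) ⟶ ⟨r ≫ G.s⟩ := mkHom _ _ r rfl rfl

theorem el_ofArrow (r : T ⟶ G.R) : el (ofArrow G r) = r := rfl

end Groth.L24.SubQuot
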