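import Groth.Agent.L24.SubQuot.Arrows
import Groth.Agent.L20.SchDesc.Main
import Mathlib.AlgebraicGeometry.Sites.Fpqc

/-!
# Descending a groupoid along the quotient of a subgroupoid

Given `q : U ⟶ B` finite flat surjective whose kernel pair lifts to arrows of the groupoid,
the groupoid is the restriction along `q` of a groupoid on `B`.
-/

set_option autoImplicit false
set_option backward.isDefEq.respectTransparency false
set_option backward.isDefEq.respectTransparency.types false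

universe u

open AlgebraicGeometry CategoryTheory CategoryTheory.Limits

noncomputable section

namespace Groth.L24.SubQuot

variable {S : Scheme.{u}} (G : Grpd.GroupoidScheme S)

/-- A morphism out of the objects whose kernel pair lifts to arrows, compatibly with composition. -/
structure Kern (B : Scheme.{u}) where
  /-- the quotient map -/
  q : G.U ⟶ B
  /-- the base -/
  m : B ⟶ S
  q_m : q ≫ m = G.pU
  flat : Flat q
  surj : Surjective q
  qc : QuasiCompact q
  /-- the lift of the kernel pair -/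
  ρ : pullback q q ⟶ G.R
  ρ_t : ρ ≫ G.t = pullback.fst q q
  ρ_s : ρ ≫ G.s = pullback.snd q q
  trans : ∀ {T : Scheme.{u}} (a b c : T ⟶ G.U) (h₁ : a ≫ q = b ≫ q) (h₂ : b ≫ q = c ≫ q),
    L02.Grpd.mul G (pullback.lift a b h₁ ≫ ρ) (pullback.lift b c h₂ ≫ ρ)
      (by simp [ρ_t, ρ_s]) = pullback.lift a c (h₁.trans h₂) ≫ ρ

variable {G} {B : Scheme.{u}} (K : Kern G B) {T : Scheme.{u}}

/-- The lifted arrow between two points with the same image. -/
def pa (a b : Pt G T) (h : a.pt ≫ K.q = b.pt ≫ K.q) : a ⟶ b :=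
  mkHom a b (pullback.lift a.pt b.pt h ≫ K.ρ) (by simp [K.ρ_t]) (by simp [K.ρ_s])

theorem pa_comp (a b c : Pt G T) (h₁ : a.pt ≫ K.q = b.pt ≫ K.q) (h₂ : b.pt ≫ K.q = c.pt ≫ K.q) :
    pa K a b h₁ ≫ pa K b c h₂ = pa K a c (h₁.trans h₂) :=
  hom_ext (K.trans a.pt b.pt c.pt h₁ h₂)

theorem pa_self (a : Pt G T) : pa K a a rfl = 𝟙 a := by
  have h := pa_comp K a a a rfl rfl
  calc pa K a a rfl = (invHom (pa K a a rfl) ≫ pa K a a rfl) ≫ pa K a a rfl := by
        rw [invHom_comp, Category.id_comp]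
    _ = 𝟙 a := by rw [Category.assoc, h, invHom_comp]

theorem invHom_pa (a b : Pt G T) (h : a.pt ≫ K.q = b.pt ≫ K.q) :
    invHom (pa K a b h) = pa K b a h.symm :=
  (invHom_unique (pa K a b h) _ (by rw [pa_comp, pa_self])).symm

theorem resHom_pa {T' : Scheme.{u}} (k : T' ⟶ T) (a b : Pt G T) (h : a.pt ≫ K.q = b.pt ≫ K.q) :
    resHom k (pa K a b h) = pa K (res k a) (res k b) (by simp [res, h]) := by
  apply hom_ext
  rw [el_resHom, pa, pa, el_mkHom, el_mkHom, ← Category.assoc]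
  congr 1
  apply pullback.hom_ext <;> simp [res]

@[reassoc]
theorem pa_comp_assoc' {a b c d : Pt G T} (h₁ : a.pt ≫ K.q = b.pt ≫ K.q) (h₂ : b.pt ≫ K.q = c.pt ≫ K.q)
    (f : c ⟶ d) : pa K a b h₁ ≫ pa K b c h₂ ≫ f = pa K a c (h₁.trans h₂) ≫ f := by
  rw [← Category.assoc, pa_comp]

/-- The map on pairs of objects. -/
abbrev qq : pullback G.pU G.pU ⟶ pullback K.m K.m :=
  pullback.map G.pU G.pU K.m K.m K.q K.q (𝟙 S) (by rw [Category.comp_id, K.q_m]) (by rw [Category.comp_id, K.q_m])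

theorem flat_qq : Flat (qq K) :=
  MorphismProperty.pullback_map (P := @Flat) K.flat K.flat K.q_m.symm K.q_m.symm

theorem surjective_qq : Surjective (qq K) :=
  MorphismProperty.pullback_map (P := @Surjective) K.surj K.surj K.q_m.symm K.q_m.symm

theorem qc_qq : QuasiCompact (qq K) :=
  MorphismProperty.pullback_map (P := @QuasiCompact) K.qc K.qc K.q_m.symm K.q_m.symm

theorem qq_fst : qq K ≫ pullback.fst K.m K.m = pullback.fst G.pU G.pU ≫ K.q := pullback.lift_fst _ _ _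

theorem qq_snd : qq K ≫ pullback.snd K.m K.m = pullback.snd G.pU G.pU ≫ K.q := pullback.lift_snd _ _ _

theorem j_fst : G.j ≫ pullback.fst G.pU G.pU = G.t := pullback.lift_fst _ _ _

theorem j_snd : G.j ≫ pullback.snd G.pU G.pU = G.s := pullback.lift_snd _ _ _

variable {K}

theorem cond_fst {v : T ⟶ G.R} {x : T ⟶ pullback G.pU G.pU} (h : v ≫ G.j ≫ qq K = x ≫ qq K) :
    (x ≫ pullback.fst _ _) ≫ K.q = (v ≫ G.t) ≫ K.q := by
  have h' := congrArg (· ≫ pullback.fst K.m K.m) h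
  simp only [Category.assoc, qq_fst, reassoc_of% j_fst] at h'
  simpa using h'.symm

theorem cond_snd {v : T ⟶ G.R} {x : T ⟶ pullback G.pU G.pU} (h : v ≫ G.j ≫ qq K = x ≫ qq K) :
    (v ≫ G.s) ≫ K.q = (x ≫ pullback.snd _ _) ≫ K.q := by
  have h' := congrArg (· ≫ pullback.snd K.m K.m) h
  simp only [Category.assoc, qq_snd, reassoc_of% j_snd] at h'
  simpa using h'

variable (K)

/-- Translating an arrow to new endpoints with the same images. -/
def moveHom {a b : Pt G T} (f : a ⟶ b) (a' b' : Pt G T) (ha : a'.pt ≫ K.q = a.pt ≫ K.q)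
    (hb : b.pt ≫ K.q = b'.pt ≫ K.q) : a' ⟶ b' :=
  pa K a' a ha ≫ f ≫ pa K b b' hb

theorem el_moveHom_congr {a b : Pt G T} (f : a ⟶ b) {v : T ⟶ G.R} (hv : el f = v) (a' b' : Pt G T)
    (ha : a'.pt ≫ K.q = a.pt ≫ K.q) (hb : b.pt ≫ K.q = b'.pt ≫ K.q)
    (a₂ b₂ : Pt G T) (h1 : a₂.pt = a'.pt) (h2 : b₂.pt = b'.pt)
    (ha₂ : a₂.pt ≫ K.q = (v ≫ G.t) ≫ K.q) (hb₂ : (v ≫ G.s) ≫ K.q = b₂.pt ≫ K.q) :
    el (moveHom K (ofArrow G v) a₂ b₂ ha₂ hb₂) = el (moveHom K f a' b' ha hb) := by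
  subst hv
  obtain ⟨a⟩ := a
  obtain ⟨b⟩ := b
  obtain ⟨a'⟩ := a'
  obtain ⟨b'⟩ := b'
  obtain ⟨a₂⟩ := a₂
  obtain ⟨b₂⟩ := b₂
  obtain rfl : a₂ = a' := h1
  obtain rfl : b₂ = b' := h2
  obtain ⟨r, ht, hs⟩ := f
  obtain rfl : r ≫ G.t = a := ht
  obtain rfl : r ≫ G.s = b := hs
  rfl

/-- The descent datum on the arrows. -/
def movePre : Groth.L20.SchDesc.Pre (qq K) G.j where
  act v x h := el (moveHom K (ofArrow G v) ⟨x ≫ pullback.fst _ _⟩ ⟨x ≫ pullback.snd _ _⟩
    (cond_fst h) (cond_snd h))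
  hom v x h := by
    apply pullback.hom_ext
    · rw [Category.assoc, j_fst, hom_t]
    · rw [Category.assoc, j_snd, hom_s]
  natural k v x h h' := by
    rw [← el_resHom]
    have e : resHom k (moveHom K (ofArrow G v) ⟨x ≫ pullback.fst _ _⟩ ⟨x ≫ pullback.snd _ _⟩
        (cond_fst h) (cond_snd h)) = moveHom K (resHom k (ofArrow G v)) _ _
          (by simp only [res_pt]; rw [Category.assoc, cond_fst h, ← Category.assoc])
          (by simp only [res_pt]; rw [Category.assoc, cond_snd h, ← Category.assoc]) := by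
      simp only [moveHom, resHom_comp, resHom_pa]
    rw [e]
    exact el_moveHom_congr K (resHom k (ofArrow G v)) rfl _ _ _ _ _ _ (Category.assoc _ _ _)
      (Category.assoc _ _ _) _ _
  self v h := by
    refine (el_moveHom_congr K (ofArrow G v) rfl ⟨v ≫ G.t⟩ ⟨v ≫ G.s⟩ rfl rfl _ _
      (by rw [Category.assoc, j_fst]) (by rw [Category.assoc, j_snd]) _ _).trans ?_
    simp only [moveHom, pa_self, Category.id_comp, Category.comp_id, el_ofArrow]
  comp v x y h h' h'' := by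
    let f₁ := moveHom K (ofArrow G v) ⟨x ≫ pullback.fst _ _⟩ ⟨x ≫ pullback.snd _ _⟩ (cond_fst h) (cond_snd h)
    refine (el_moveHom_congr K f₁ rfl ⟨y ≫ pullback.fst _ _⟩ ⟨y ≫ pullback.snd _ _⟩
      ((cond_fst h'').trans (cond_fst h).symm) ((cond_snd h).symm.trans (cond_snd h'')) _ _ rfl rfl _ _).trans ?_
    simp only [f₁, moveHom, Category.assoc, pa_comp, pa_comp_assoc']

variable {K} (d : Groth.L20.SchDesc.Descent (movePre K))

/-- The image of an arrow downstairs. -/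
def im {a b : Pt G T} (f : a ⟶ b) : T ⟶ d.U := el f ≫ d.q

theorem j_q : d.q ≫ d.a = G.j ≫ qq K := d.isPullback.w.symm

/-- The descended source. -/
def sB : d.U ⟶ B := d.a ≫ pullback.snd K.m K.m

/-- The descended target. -/
def tB : d.U ⟶ B := d.a ≫ pullback.fst K.m K.m

theorem q_sB : d.q ≫ sB d = G.s ≫ K.q := by
  rw [sB, reassoc_of% j_q, qq_snd, reassoc_of% j_snd]

theorem q_tB : d.q ≫ tB d = G.t ≫ K.q := by
  rw [tB, reassoc_of% j_q, qq_fst, reassoc_of% j_fst]

theorem im_sB {a b : Pt G T} (f : a ⟶ b) : im d f ≫ sB d = b.pt ≫ K.q := by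
  rw [im, Category.assoc, q_sB, ← Category.assoc, hom_s]

theorem im_tB {a b : Pt G T} (f : a ⟶ b) : im d f ≫ tB d = a.pt ≫ K.q := by
  rw [im, Category.assoc, q_tB, ← Category.assoc, hom_t]

theorem im_move {a b : Pt G T} (f : a ⟶ b) (a' b' : Pt G T) (ha : a'.pt ≫ K.q = a.pt ≫ K.q)
    (hb : b.pt ≫ K.q = b'.pt ≫ K.q) : im d (moveHom K f a' b' ha hb) = im d f := by
  have hU : a'.pt ≫ G.pU = b'.pt ≫ G.pU := by
    rw [← K.q_m, reassoc_of% ha, ← reassoc_of% hb, K.q_m, ← hom_t f, ← hom_s f, Category.assoc, Category.assoc,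
      G.t_over, G.s_over]
  let x : T ⟶ pullback G.pU G.pU := pullback.lift a'.pt b'.pt hU
  have hx : el f ≫ G.j ≫ qq K = x ≫ qq K := by
    apply pullback.hom_ext
    · simp only [Category.assoc, qq_fst, reassoc_of% j_fst, x, pullback.lift_fst_assoc]
      rw [← Category.assoc, hom_t, ha]
    · simp only [Category.assoc, qq_snd, reassoc_of% j_snd, x, pullback.lift_snd_assoc]
      rw [← Category.assoc, hom_s, hb]
  have e := el_moveHom_congr K f rfl a' b' ha hb ⟨x ≫ pullback.fst _ _⟩ ⟨x ≫ pullback.snd _ _⟩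
    (pullback.lift_fst _ _ _) (pullback.lift_snd _ _ _) (cond_fst hx) (cond_snd hx)
  show el (moveHom K f a' b' ha hb) ≫ d.q = el f ≫ d.q
  rw [← e]
  exact d.comm (el f) x hx

theorem exists_move {a b a' b' : Pt G T} (f : a ⟶ b) (f' : a' ⟶ b') (h : im d f = im d f') :
    ∃ (ha : a'.pt ≫ K.q = a.pt ≫ K.q) (hb : b.pt ≫ K.q = b'.pt ≫ K.q), f' = moveHom K f a' b' ha hb := by
  have ha : a'.pt ≫ K.q = a.pt ≫ K.q := by rw [← im_tB d f', ← h, im_tB]
  have hb : b.pt ≫ K.q = b'.pt ≫ K.q := by rw [← im_sB d f', ← h, im_sB]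
  refine ⟨ha, hb, hom_ext (d.isPullback.hom_ext ?_ ?_)⟩
  · apply pullback.hom_ext <;> simp only [Category.assoc, j_fst, j_snd, hom_t, hom_s]
  · exact h.symm.trans (im_move d f a' b' ha hb).symm

end Groth.L24.SubQuot
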