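import Groth.Agent.L24.SubQuot.Descend

/-!
# The descended groupoid
-/

set_option autoImplicit false
set_option backward.isDefEq.respectTransparency false
set_option backward.isDefEq.respectTransparency.types false

universe u

open AlgebraicGeometry CategoryTheory CategoryTheory.Limits

noncomputable section

namespace Groth.L24.SubQuot

variable {S : Scheme.{u}} {G : Grpd.GroupoidScheme S} {B : Scheme.{u}} {K : Kern G B}
  (d : Groth.L20.SchDesc.Descent (movePre K)) {T : Scheme.{u}}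

theorem props_dq : Flat d.q ∧ Surjective d.q ∧ QuasiCompact d.q :=
  ⟨MorphismProperty.of_isPullback (P := @Flat) d.isPullback (flat_qq K),
    MorphismProperty.of_isPullback (P := @Surjective) d.isPullback (surjective_qq K),
    MorphismProperty.of_isPullback (P := @QuasiCompact) d.isPullback (qc_qq K)⟩

theorem effectiveEpi_dq : EffectiveEpi d.q := by
  obtain ⟨_, _, _⟩ := props_dq d
  infer_instance

theorem effectiveEpi_q (K : Kern G B) : EffectiveEpi K.q := by
  have := K.flat; have := K.surj; have := K.qc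
  infer_instance

theorem exists_lift (z : T ⟶ d.U) :
    ∃ (T' : Scheme.{u}) (k : T' ⟶ T), Epi k ∧ ∃ r : T' ⟶ G.R, r ≫ d.q = k ≫ z := by
  obtain ⟨h₁, h₂, h₃⟩ := props_dq d
  have : Flat (pullback.snd d.q z) := MorphismProperty.pullback_snd _ _ h₁
  have : Surjective (pullback.snd d.q z) := MorphismProperty.pullback_snd _ _ h₂
  have : QuasiCompact (pullback.snd d.q z) := MorphismProperty.pullback_snd _ _ h₃
  exact ⟨_, pullback.snd d.q z, inferInstance, _, pullback.condition⟩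

/-- The middle translation composed between two arrows. -/
def join {a b b' c : Pt G T} (f : a ⟶ b) (g : b' ⟶ c) (h : b.pt ≫ K.q = b'.pt ≫ K.q) : a ⟶ c :=
  f ≫ pa K b b' h ≫ g

theorem im_join_congr {a b b' c a₁ b₁ b₁' c₁ : Pt G T} (f : a ⟶ b) (g : b' ⟶ c) (f₁ : a₁ ⟶ b₁) (g₁ : b₁' ⟶ c₁)
    (hf : im d f = im d f₁) (hg : im d g = im d g₁) (h : b.pt ≫ K.q = b'.pt ≫ K.q)
    (h₁ : b₁.pt ≫ K.q = b₁'.pt ≫ K.q) : im d (join f g h) = im d (join f₁ g₁ h₁) := by
  obtain ⟨ha, hb, rfl⟩ := exists_move d f f₁ hf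
  obtain ⟨hb', hc, rfl⟩ := exists_move d g g₁ hg
  rw [← im_move d (join f g h) a₁ c₁ ha hc]
  congr 1
  simp only [join, moveHom, Category.assoc, pa_comp, pa_comp_assoc']

theorem comp_im {T' : Scheme.{u}} (k : T' ⟶ T) {a b : Pt G T} (f : a ⟶ b) :
    k ≫ im d f = im d (resHom k f) := by
  rw [im, im, el_resHom, Category.assoc]

theorem resHom_join {T' : Scheme.{u}} (k : T' ⟶ T) {a b b' c : Pt G T} (f : a ⟶ b) (g : b' ⟶ c)
    (h : b.pt ≫ K.q = b'.pt ≫ K.q) :
    resHom k (join f g h) = join (K := K) (resHom k f) (resHom k g) (by simp [res_pt, h]) := by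
  simp only [join, resHom_comp, resHom_pa]

/-- The scheme of pairs of arrows composable downstairs. -/
abbrev PairV : Scheme.{u} := pullback (d.q ≫ sB d) (d.q ≫ tB d)

/-- The map from pairs of arrows to composable pairs downstairs. -/
abbrev pairMap : PairV d ⟶ pullback (sB d) (tB d) :=
  pullback.map (d.q ≫ sB d) (d.q ≫ tB d) (sB d) (tB d) d.q d.q (𝟙 B) (by simp) (by simp)

theorem effectiveEpi_pairMap : EffectiveEpi (pairMap d) := by
  obtain ⟨h₁, h₂, h₃⟩ := props_dq d
  have : Flat (pairMap d) := MorphismProperty.pullback_map (P := @Flat) h₁ h₁ rfl rfl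
  have : Surjective (pairMap d) := MorphismProperty.pullback_map (P := @Surjective) h₂ h₂ rfl rfl
  have : QuasiCompact (pairMap d) := MorphismProperty.pullback_map (P := @QuasiCompact) h₃ h₃ rfl rfl
  infer_instance

theorem pairCond {r r' : T ⟶ G.R} (h : r ≫ d.q ≫ sB d = r' ≫ d.q ≫ tB d) :
    (r ≫ G.s) ≫ K.q = (r' ≫ G.t) ≫ K.q := by
  rwa [q_sB, q_tB, ← Category.assoc, ← Category.assoc] at h

/-- The value of the composition on pairs of arrows. -/
def pairVal : PairV d ⟶ d.U :=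
  im d (join (ofArrow G (pullback.fst _ _)) (ofArrow G (pullback.snd _ _)) (pairCond d pullback.condition))

theorem comp_pairVal (k : T ⟶ PairV d) :
    k ≫ pairVal d = im d (join (ofArrow G (k ≫ pullback.fst _ _)) (ofArrow G (k ≫ pullback.snd _ _))
      (pairCond d (by simp [pullback.condition]))) := by
  rw [pairVal, comp_im, resHom_join]
  exact im_join_congr d _ _ _ _ rfl rfl _ _

theorem pairVal_wd {Z : Scheme.{u}} (g₁ g₂ : Z ⟶ PairV d) (h : g₁ ≫ pairMap d = g₂ ≫ pairMap d) :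
    g₁ ≫ pairVal d = g₂ ≫ pairVal d := by
  rw [comp_pairVal, comp_pairVal]
  refine im_join_congr d _ _ _ _ ?_ ?_ _ _
  · have h' := congrArg (· ≫ pullback.fst _ _) h
    simpa [im, el_ofArrow] using h'
  · have h' := congrArg (· ≫ pullback.snd _ _) h
    simpa [im, el_ofArrow] using h'

/-- Composition downstairs. -/
def cB : pullback (sB d) (tB d) ⟶ d.U :=
  haveI := effectiveEpi_pairMap d
  EffectiveEpi.desc (pairMap d) (pairVal d) (pairVal_wd d)

theorem pairMap_cB : pairMap d ≫ cB d = pairVal d :=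
  haveI := effectiveEpi_pairMap d
  EffectiveEpi.fac _ _ _

theorem lift_cB {a b b' c : Pt G T} (f : a ⟶ b) (g : b' ⟶ c) (h : im d f ≫ sB d = im d g ≫ tB d) :
    pullback.lift (im d f) (im d g) h ≫ cB d =
      im d (join f g (by rw [← im_sB d f, h, im_tB])) := by
  have hk : el f ≫ d.q ≫ sB d = el g ≫ d.q ≫ tB d := by
    simpa only [im, Category.assoc] using h
  have e : pullback.lift (im d f) (im d g) h = pullback.lift (el f) (el g) hk ≫ pairMap d := by
    apply pullback.hom_ext <;> simp [im]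
  rw [e, Category.assoc, pairMap_cB, comp_pairVal]
  refine im_join_congr d _ _ _ _ ?_ ?_ _ _
  · simp [im, el_ofArrow]
  · simp [im, el_ofArrow]

theorem lift_cB' (α β : T ⟶ d.U) (h : α ≫ sB d = β ≫ tB d) {a b b' c : Pt G T} (f : a ⟶ b) (g : b' ⟶ c)
    (hf : α = im d f) (hg : β = im d g) :
    pullback.lift α β h ≫ cB d = im d (join f g (by rw [← im_sB d f, ← hf, h, hg, im_tB])) := by
  subst hf hg
  exact lift_cB d f g h

/-- The arrows downstairs of identities. -/
theorem eVal_wd {Z : Scheme.{u}} (g₁ g₂ : Z ⟶ G.U) (h : g₁ ≫ K.q = g₂ ≫ K.q) :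
    g₁ ≫ G.e ≫ d.q = g₂ ≫ G.e ≫ d.q := by
  have h1 : moveHom K (𝟙 (⟨g₁⟩ : Pt G Z)) ⟨g₂⟩ ⟨g₂⟩ h.symm h = 𝟙 (⟨g₂⟩ : Pt G Z) := by
    simp only [moveHom, Category.id_comp, pa_comp, pa_self]
  have h2 := im_move d (𝟙 (⟨g₁⟩ : Pt G Z)) ⟨g₂⟩ ⟨g₂⟩ h.symm h
  rw [h1] at h2
  simp only [im, el_id, Category.assoc] at h2
  exact h2.symm

/-- Identity downstairs. -/
def eB : B ⟶ d.U :=
  haveI := effectiveEpi_q K
  EffectiveEpi.desc K.q (G.e ≫ d.q) (eVal_wd d)

theorem q_eB : K.q ≫ eB d = G.e ≫ d.q :=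
  haveI := effectiveEpi_q K
  EffectiveEpi.fac _ _ _

theorem im_id (a : Pt G T) : im d (𝟙 a) = a.pt ≫ K.q ≫ eB d := by
  rw [im, el_id, q_eB, Category.assoc]

theorem iVal_wd {Z : Scheme.{u}} (g₁ g₂ : Z ⟶ G.R) (h : g₁ ≫ d.q = g₂ ≫ d.q) :
    g₁ ≫ G.i ≫ d.q = g₂ ≫ G.i ≫ d.q := by
  obtain ⟨ha, hb, e⟩ := exists_move d (ofArrow G g₁) (ofArrow G g₂) h
  have h1 : invHom (ofArrow G g₂) = moveHom K (invHom (ofArrow G g₁)) _ _ hb.symm ha.symm := by
    refine (invHom_unique _ _ ?_).symm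
    rw [e]
    simp only [moveHom, Category.assoc, pa_comp_assoc', pa_self, Category.id_comp]
    rw [← Category.assoc (invHom _), invHom_comp, Category.id_comp, pa_comp, pa_self]
  have h2 := im_move d (invHom (ofArrow G g₁)) _ _ hb.symm ha.symm
  rw [← h1] at h2
  simpa [im, el_invHom, el_ofArrow] using h2.symm

/-- Inverse downstairs. -/
def iB : d.U ⟶ d.U :=
  haveI := effectiveEpi_dq d
  EffectiveEpi.desc d.q (G.i ≫ d.q) (iVal_wd d)

theorem q_iB : d.q ≫ iB d = G.i ≫ d.q :=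
  haveI := effectiveEpi_dq d
  EffectiveEpi.fac _ _ _

theorem im_iB {a b : Pt G T} (f : a ⟶ b) : im d f ≫ iB d = im d (invHom f) := by
  rw [im, im, Category.assoc, q_iB, el_invHom, Category.assoc]

theorem im_ofArrow {r : T ⟶ G.R} {z : T ⟶ d.U} (h : r ≫ d.q = z) : im d (ofArrow G r) = z := h

/-- The groupoid downstairs. -/
def descend : Grpd.GroupoidScheme S where
  U := B
  R := d.U
  pU := K.m
  pR := sB d ≫ K.m
  s := sB d
  t := tB d
  e := eB d
  i := iB d
  c := cB d
  s_over := rfl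
  t_over := by
    show (d.a ≫ pullback.fst K.m K.m) ≫ K.m = (d.a ≫ pullback.snd K.m K.m) ≫ K.m
    rw [Category.assoc, Category.assoc, pullback.condition]
  comp_s α β h := by
    obtain ⟨T₁, k₁, _, r, hr⟩ := exists_lift d α
    obtain ⟨T₂, k₂, _, r', hr'⟩ := exists_lift d (k₁ ≫ β)
    rw [← cancel_epi k₁, ← cancel_epi k₂]
    simp only [← Category.assoc]
    rw [Category.assoc (k₂ ≫ k₁), Category.assoc (k₂ ≫ k₁)]
    have e : (k₂ ≫ k₁) ≫ pullback.lift α β h = pullback.lift ((k₂ ≫ k₁) ≫ α) ((k₂ ≫ k₁) ≫ β)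
        (by rw [Category.assoc, h, ← Category.assoc]) := by
      apply pullback.hom_ext <;> simp
    rw [← Category.assoc (k₂ ≫ k₁), ← Category.assoc (k₂ ≫ k₁), e,
      lift_cB' d _ _ _ (ofArrow G (k₂ ≫ r)) (ofArrow G r') (by simp [im, el_ofArrow, hr])
        (by simp [im, el_ofArrow, hr']), im_sB]
    rw [show (k₂ ≫ k₁) ≫ β = r' ≫ d.q by rw [hr', Category.assoc], Category.assoc r' d.q, q_sB, Category.assoc]
  comp_t α β h := by
    obtain ⟨T₁, k₁, _, r, hr⟩ := exists_lift d α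
    obtain ⟨T₂, k₂, _, r', hr'⟩ := exists_lift d (k₁ ≫ β)
    rw [← cancel_epi k₁, ← cancel_epi k₂]
    simp only [← Category.assoc]
    have e : (k₂ ≫ k₁) ≫ pullback.lift α β h = pullback.lift ((k₂ ≫ k₁) ≫ α) ((k₂ ≫ k₁) ≫ β)
        (by rw [Category.assoc, h, ← Category.assoc]) := by
      apply pullback.hom_ext <;> simp
    rw [e, lift_cB' d _ _ _ (ofArrow G (k₂ ≫ r)) (ofArrow G r') (by simp [im, el_ofArrow, hr])
        (by simp [im, el_ofArrow, hr']), im_tB]
    simp [q_tB, ← reassoc_of% hr]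
  assoc α β γ h₁ h₂ := by
    obtain ⟨T₁, k₁, _, r₁, hr₁⟩ := exists_lift d α
    obtain ⟨T₂, k₂, _, r₂, hr₂⟩ := exists_lift d (k₁ ≫ β)
    obtain ⟨T₃, k₃, _, r₃, hr₃⟩ := exists_lift d (k₂ ≫ k₁ ≫ γ)
    rw [← cancel_epi k₁, ← cancel_epi k₂, ← cancel_epi k₃]
    let k := k₃ ≫ k₂ ≫ k₁
    have hk : ∀ {W : Scheme.{u}} (x : _ ⟶ W), k₃ ≫ k₂ ≫ k₁ ≫ x = k ≫ x := fun x => by simp [k]
    rw [hk, hk]
    have push : ∀ (x y : _ ⟶ d.U) (hxy : x ≫ sB d = y ≫ tB d),
        k ≫ pullback.lift x y hxy ≫ cB d =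
          pullback.lift (k ≫ x) (k ≫ y) (by rw [Category.assoc, hxy, ← Category.assoc]) ≫ cB d := by
      intro x y hxy
      rw [← Category.assoc]
      congr 1
      apply pullback.hom_ext <;> simp
    let f := ofArrow G (k₃ ≫ k₂ ≫ r₁)
    let g := ofArrow G (k₃ ≫ r₂)
    let p := ofArrow G r₃
    have hf : k ≫ α = im d f := by simp [k, f, im, el_ofArrow, hr₁]
    have hg : k ≫ β = im d g := by simp [k, g, im, el_ofArrow, hr₂]
    have hp : k ≫ γ = im d p := by simp [k, p, im, el_ofArrow, hr₃]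
    refine (push _ _ _).trans ((lift_cB' d _ _ _
      (join f g (by rw [← im_sB d f, ← hf, Category.assoc, h₁, ← Category.assoc, hg, im_tB])) p
      (by rw [push, lift_cB' d _ _ _ f g hf hg]) hp).trans
      (Eq.symm ((push _ _ _).trans ((lift_cB' d _ _ _ f
        (join g p (by rw [← im_sB d g, ← hg, Category.assoc, h₂, ← Category.assoc, hp, im_tB])) hf
        (by rw [push, lift_cB' d _ _ _ g p hg hp])).trans ?_))))
    simp only [join, Category.assoc]
  e_s := by
    have := effectiveEpi_q K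
    rw [← cancel_epi K.q, reassoc_of% q_eB d, q_sB, reassoc_of% G.e_s, Category.comp_id]
  e_t := by
    have := effectiveEpi_q K
    rw [← cancel_epi K.q, reassoc_of% q_eB d, q_tB, reassoc_of% G.e_t, Category.comp_id]
  comp_e α := by
    obtain ⟨T₁, k₁, _, r, hr⟩ := exists_lift d α
    rw [← cancel_epi k₁]
    let f := ofArrow G r
    have hf : k₁ ≫ α = im d f := (im_ofArrow d hr).symm
    rw [← Category.assoc, show k₁ ≫ pullback.lift α (α ≫ sB d ≫ eB d) _ =
        pullback.lift (k₁ ≫ α) (k₁ ≫ α ≫ sB d ≫ eB d) (by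
          have := effectiveEpi_q K
          simp [show eB d ≫ tB d = 𝟙 B by
            rw [← cancel_epi K.q, reassoc_of% q_eB d, q_tB, reassoc_of% G.e_t, Category.comp_id]]) by
      apply pullback.hom_ext <;> simp,
      lift_cB' d _ _ _ f (𝟙 (⟨r ≫ G.s⟩ : Pt G T₁)) hf (by rw [im_id, ← Category.assoc, hf, reassoc_of% im_sB d f]; simp)]
    refine Eq.trans ?_ hf.symm
    simp only [join, Category.comp_id, pa_self]
  e_comp α := by
    obtain ⟨T₁, k₁, _, r, hr⟩ := exists_lift d α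
    rw [← cancel_epi k₁]
    let f := ofArrow G r
    have hf : k₁ ≫ α = im d f := (im_ofArrow d hr).symm
    rw [← Category.assoc, show k₁ ≫ pullback.lift (α ≫ tB d ≫ eB d) α _ =
        pullback.lift (k₁ ≫ α ≫ tB d ≫ eB d) (k₁ ≫ α) (by
          have := effectiveEpi_q K
          simp [show eB d ≫ sB d = 𝟙 B by
            rw [← cancel_epi K.q, reassoc_of% q_eB d, q_sB, reassoc_of% G.e_s, Category.comp_id]]) by
      apply pullback.hom_ext <;> simp,
      lift_cB' d _ _ _ (𝟙 (⟨r ≫ G.t⟩ : Pt G T₁)) f (by rw [im_id, ← Category.assoc, hf, reassoc_of% im_tB d f]; simp) hf]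
    refine Eq.trans ?_ hf.symm
    simp only [join, Category.id_comp, pa_self]
  i_s := by
    have := effectiveEpi_dq d
    rw [← cancel_epi d.q, reassoc_of% q_iB d, q_sB, q_tB, reassoc_of% G.i_s]
  i_t := by
    have := effectiveEpi_dq d
    rw [← cancel_epi d.q, reassoc_of% q_iB d, q_sB, q_tB, reassoc_of% G.i_t]
  comp_i α := by
    obtain ⟨T₁, k₁, _, r, hr⟩ := exists_lift d α
    rw [← cancel_epi k₁]
    let f := ofArrow G r
    have hf : k₁ ≫ α = im d f := (im_ofArrow d hr).symm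
    rw [← Category.assoc, show k₁ ≫ pullback.lift α (α ≫ iB d) _ =
        pullback.lift (k₁ ≫ α) (k₁ ≫ α ≫ iB d) (by
          have := effectiveEpi_dq d
          simp [show iB d ≫ tB d = sB d by
            rw [← cancel_epi d.q, reassoc_of% q_iB d, q_sB, q_tB, reassoc_of% G.i_t]]) by
      apply pullback.hom_ext <;> simp,
      lift_cB' d _ _ _ f (invHom f) hf (by rw [← Category.assoc, hf, im_iB])]
    refine Eq.trans ?_ (show im d (𝟙 (⟨r ≫ G.t⟩ : Pt G T₁)) = k₁ ≫ α ≫ tB d ≫ eB d by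
      rw [im_id, reassoc_of% hf, reassoc_of% im_tB d f]; simp)
    simp only [join, pa_self, Category.id_comp, comp_invHom]
  i_comp α := by
    obtain ⟨T₁, k₁, _, r, hr⟩ := exists_lift d α
    rw [← cancel_epi k₁]
    let f := ofArrow G r
    have hf : k₁ ≫ α = im d f := (im_ofArrow d hr).symm
    rw [← Category.assoc, show k₁ ≫ pullback.lift (α ≫ iB d) α _ =
        pullback.lift (k₁ ≫ α ≫ iB d) (k₁ ≫ α) (by
          have := effectiveEpi_dq d
          simp [show iB d ≫ sB d = tB d by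
            rw [← cancel_epi d.q, reassoc_of% q_iB d, q_sB, q_tB, reassoc_of% G.i_s]]) by
      apply pullback.hom_ext <;> simp,
      lift_cB' d _ _ _ (invHom f) f (by rw [← Category.assoc, hf, im_iB]) hf]
    refine Eq.trans ?_ (show im d (𝟙 (⟨r ≫ G.s⟩ : Pt G T₁)) = k₁ ≫ α ≫ sB d ≫ eB d by
      rw [im_id, reassoc_of% hf, reassoc_of% im_sB d f]; simp)
    simp only [join, pa_self, Category.id_comp, invHom_comp]

/-- The projection to the descended groupoid. -/
def descendHom : Grpd.GroupoidScheme.Hom G (descend d) where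
  fU := K.q
  fR := d.q
  fU_over := K.q_m
  comm_s := q_sB d
  comm_t := q_tB d
  comm_c α β h := by
    let a : Pt G _ := ⟨α ≫ G.t⟩
    let b : Pt G _ := ⟨α ≫ G.s⟩
    let f : a ⟶ b := mkHom a b α rfl rfl
    let g : b ⟶ ⟨β ≫ G.s⟩ := mkHom _ _ β h.symm rfl
    refine Eq.trans ?_ (lift_cB' d (α ≫ d.q) (β ≫ d.q) _ f g rfl rfl).symm
    simp only [join, pa_self, Category.id_comp]
    rfl

theorem isPullback_descend :
    IsPullback (descendHom d).fR G.j (descend d).j
      (pullback.map G.pU G.pU (descend d).pU (descend d).pU (descendHom d).fU (descendHom d).fU (𝟙 S)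
        ((Category.comp_id _).trans (descendHom d).fU_over.symm)
        ((Category.comp_id _).trans (descendHom d).fU_over.symm)) := by
  have e : (descend d).j = d.a := by
    apply pullback.hom_ext
    · exact pullback.lift_fst _ _ _
    · exact pullback.lift_snd _ _ _
  rw [e]
  exact d.isPullback.flip

end Groth.L24.SubQuot
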