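import Groth.Agent.L24.SubQuot.Glue
import Groth.Agent.S7488
import Groth.Agent.S1878
import Groth.Agent.S1402

/-!
# The quotient of a groupoid by a finite locally free subgroupoid
-/

set_option autoImplicit false
set_option backward.isDefEq.respectTransparency false
set_option backward.isDefEq.respectTransparency.types false

universe u

open AlgebraicGeometry CategoryTheory CategoryTheory.Limits

noncomputable section

namespace Groth.L24.SubQuot

variable {S : Scheme.{u}} (G : Grpd.GroupoidScheme S) {P : Scheme.{u}} (ιP : P ⟶ G.R) [Mono ιP]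
  (he : ∃ eP : G.U ⟶ P, eP ≫ ιP = G.e) (hi : ∃ iP : P ⟶ P, iP ≫ ιP = ιP ≫ G.i)
  (hc : ∃ cP : pullback (ιP ≫ G.s) (ιP ≫ G.t) ⟶ P,
    cP ≫ ιP = pullback.map (ιP ≫ G.s) (ιP ≫ G.t) G.s G.t ιP ιP (𝟙 G.U) (Category.comp_id _) (Category.comp_id _) ≫ G.c)

theorem cP_ι {cP : pullback (ιP ≫ G.s) (ιP ≫ G.t) ⟶ P}
    (h : cP ≫ ιP = pullback.map (ιP ≫ G.s) (ιP ≫ G.t) G.s G.t ιP ιP (𝟙 G.U) (Category.comp_id _) (Category.comp_id _) ≫ G.c)
    {T : Scheme.{u}} (α β : T ⟶ P) (w : α ≫ ιP ≫ G.s = β ≫ ιP ≫ G.t) :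
    (pullback.lift α β w ≫ cP) ≫ ιP = L02.Grpd.mul G (α ≫ ιP) (β ≫ ιP) (by simp [w]) := by
  rw [Category.assoc, h, L02.Grpd.mul, ← Category.assoc]
  congr 1
  apply pullback.hom_ext <;> simp

/-- The subgroupoid as a groupoid scheme. -/
def subGroupoid : Grpd.GroupoidScheme S where
  U := G.U
  R := P
  pU := G.pU
  pR := ιP ≫ G.pR
  s := ιP ≫ G.s
  t := ιP ≫ G.t
  e := he.choose
  i := hi.choose
  c := hc.choose
  s_over := by rw [Category.assoc, G.s_over]
  t_over := by rw [Category.assoc, G.t_over]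
  comp_s α β h := by
    rw [← Category.assoc, cP_ι G ιP hc.choose_spec α β h, L02.Grpd.mul_s, Category.assoc]
  comp_t α β h := by
    rw [← Category.assoc, cP_ι G ιP hc.choose_spec α β h, L02.Grpd.mul_t, Category.assoc]
  assoc α β γ h₁ h₂ := by
    rw [← cancel_mono ιP]
    refine (cP_ι G ιP hc.choose_spec _ _ _).trans (Eq.trans ?_ (cP_ι G ιP hc.choose_spec _ _ _).symm)
    refine (L02.Grpd.mul_congr G (cP_ι G ιP hc.choose_spec α β h₁) rfl _ (by simp [h₂])).trans ?_
    refine Eq.trans ?_ (L02.Grpd.mul_congr G rfl (cP_ι G ιP hc.choose_spec β γ h₂).symm (by simp [h₁]) _)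
    exact L02.Grpd.mul_assoc' G _ _ _ _ _
  e_s := by rw [← Category.assoc, he.choose_spec, G.e_s]
  e_t := by rw [← Category.assoc, he.choose_spec, G.e_t]
  comp_e α := by
    rw [← cancel_mono ιP, cP_ι G ιP hc.choose_spec]
    exact (L02.Grpd.mul_congr G rfl (by simp [he.choose_spec]) _ (by simp [G.e_t])).trans (G.comp_e (α ≫ ιP))
  e_comp α := by
    rw [← cancel_mono ιP, cP_ι G ιP hc.choose_spec]
    exact (L02.Grpd.mul_congr G (by simp [he.choose_spec]) rfl _ (by simp [G.e_s])).trans (G.e_comp (α ≫ ιP))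
  i_s := by rw [← Category.assoc, hi.choose_spec, Category.assoc, G.i_s]
  i_t := by rw [← Category.assoc, hi.choose_spec, Category.assoc, G.i_t]
  comp_i α := by
    rw [← cancel_mono ιP, cP_ι G ιP hc.choose_spec]
    refine (L02.Grpd.mul_congr G rfl (by simp [hi.choose_spec]) _ (by simp [G.i_t])).trans ((G.comp_i (α ≫ ιP)).trans ?_)
    simp [he.choose_spec]
  i_comp α := by
    rw [← cancel_mono ιP, cP_ι G ιP hc.choose_spec]
    refine (L02.Grpd.mul_congr G (by simp [hi.choose_spec]) rfl _ (by simp [G.i_s])).trans ((G.i_comp (α ≫ ιP)).trans ?_)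
    simp [he.choose_spec]

theorem subGroupoid_j : (subGroupoid G ιP he hi hc).j = ιP ≫ G.j := by
  show pullback.lift (ιP ≫ G.t) (ιP ≫ G.s) _ = ιP ≫ pullback.lift G.t G.s _
  apply pullback.hom_ext <;> simp

include he hi hc in
theorem exists_quotient [IsAffine G.U] [IsSeparated G.j] [LocallyQuasiFinite G.j] [LocallyOfFiniteType G.j]
    [IsFinite (ιP ≫ G.s)] [Flat (ιP ≫ G.s)] [LocallyOfFinitePresentation (ιP ≫ G.s)]
    [IsFinite (ιP ≫ G.t)] [Flat (ιP ≫ G.t)] [LocallyOfFinitePresentation (ιP ≫ G.t)] [Mono (ιP ≫ G.j)] :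
    ∃ (H : Grpd.GroupoidScheme S) (φ : Grpd.GroupoidScheme.Hom G H),
      IsAffine H.U ∧
      QuotSh.IsQuotient Scheme.fppfPrecoverage
        (Over.homMk (ιP ≫ G.s) ((Category.assoc _ _ _).trans (congrArg (ιP ≫ ·) G.s_over)) :
          (Over.mk (ιP ≫ G.pR) : Over S) ⟶ Over.mk G.pU)
        (Over.homMk (ιP ≫ G.t) ((Category.assoc _ _ _).trans (congrArg (ιP ≫ ·) G.t_over)) :
          (Over.mk (ιP ≫ G.pR) : Over S) ⟶ Over.mk G.pU)
        (Over.homMk φ.fU φ.fU_over : Over.mk G.pU ⟶ Over.mk H.pU) ∧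
      IsFinite φ.fU ∧ Flat φ.fU ∧ LocallyOfFinitePresentation φ.fU ∧
      IsPullback (ιP ≫ G.t) (ιP ≫ G.s) φ.fU φ.fU ∧
      IsPullback φ.fR G.j H.j
        (pullback.map G.pU G.pU H.pU H.pU φ.fU φ.fU (𝟙 S)
          ((Category.comp_id _).trans φ.fU_over.symm) ((Category.comp_id _).trans φ.fU_over.symm)) := by
  let GP := subGroupoid G ιP he hi hc
  haveI : IsAffine GP.U := ‹IsAffine G.U›
  haveI : IsFinite GP.s := ‹IsFinite (ιP ≫ G.s)›
  haveI : Flat GP.s := ‹Flat (ιP ≫ G.s)›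
  haveI : LocallyOfFinitePresentation GP.s := ‹LocallyOfFinitePresentation (ιP ≫ G.s)›
  haveI : IsFinite GP.t := ‹IsFinite (ιP ≫ G.t)›
  haveI : Flat GP.t := ‹Flat (ιP ≫ G.t)›
  haveI : LocallyOfFinitePresentation GP.t := ‹LocallyOfFinitePresentation (ιP ≫ G.t)›
  haveI : IsAffine GP.R := isAffine_of_isAffineHom GP.s
  haveI : Mono GP.j := by
    show Mono (subGroupoid G ιP he hi hc).j
    rw [subGroupoid_j]
    exact ‹Mono (ιP ≫ G.j)›
  obtain ⟨h1, h2, h3, h4⟩ := Groth.Agent.L24.Quot.finite_flat_toQuot GP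
  obtain ⟨m, ⟨hm, hquot⟩, -⟩ := Groth.Agent.S7488.result S GP
  have hsurj : Surjective GP.toQuot := ⟨(Groth.Agent.S1878.result S GP).1.1⟩
  have pt : ∀ {T : Scheme.{u}} (x : T ⟶ pullback GP.toQuot GP.toQuot),
      ((x ≫ h4.isoPullback.inv) ≫ ιP) ≫ G.t = x ≫ pullback.fst _ _ := fun x => by
    rw [Category.assoc, Category.assoc, ← h4.isoPullback_inv_fst]
    rfl
  have ps : ∀ {T : Scheme.{u}} (x : T ⟶ pullback GP.toQuot GP.toQuot),
      ((x ≫ h4.isoPullback.inv) ≫ ιP) ≫ G.s = x ≫ pullback.snd _ _ := fun x => by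
    rw [Category.assoc, Category.assoc, ← h4.isoPullback_inv_snd]
    rfl
  let K : Kern G (Spec (CommRingCat.of GP.invariants)) :=
    { q := GP.toQuot
      m := m
      q_m := hm
      flat := h2
      surj := hsurj
      qc := inferInstance
      ρ := h4.isoPullback.inv ≫ ιP
      ρ_t := by simpa using pt (𝟙 _)
      ρ_s := by simpa using ps (𝟙 _)
      trans := fun {T} a b c e₁ e₂ => by
        let α : T ⟶ P := pullback.lift a b e₁ ≫ h4.isoPullback.inv
        let β : T ⟶ P := pullback.lift b c e₂ ≫ h4.isoPullback.inv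
        have w : α ≫ ιP ≫ G.s = β ≫ ιP ≫ G.t := by
          rw [← Category.assoc, ← Category.assoc]
          exact (ps _).trans ((pullback.lift_snd _ _ _).trans ((pt _).trans (pullback.lift_fst _ _ _)).symm)
        refine (L02.Grpd.mul_congr G (Category.assoc _ _ _).symm (Category.assoc _ _ _).symm _
          (by simpa [α, β] using w)).trans ((cP_ι G ιP hc.choose_spec α β w).symm.trans ?_)
        rw [← Category.assoc (pullback.lift a c _)]
        congr 1
        apply h4.hom_ext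
        · show _ ≫ ιP ≫ G.t = _ ≫ ιP ≫ G.t
          rw [← Category.assoc, ← Category.assoc, cP_ι G ιP hc.choose_spec α β w, L02.Grpd.mul_t, pt, pt]
          simp
        · show _ ≫ ιP ≫ G.s = _ ≫ ιP ≫ G.s
          rw [← Category.assoc, ← Category.assoc, cP_ι G ιP hc.choose_spec α β w, L02.Grpd.mul_s, ps, ps]
          simp }
  have := flat_qq K
  have := surjective_qq K
  have := qc_qq K
  obtain ⟨d⟩ := Groth.L20.SchDesc.effective_of_isIndQuasiAffineHom (Groth.Agent.S1402.result G.j) (movePre K)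
  exact ⟨descend d, descendHom d, inferInstanceAs (IsAffine (Spec (CommRingCat.of GP.invariants))), hquot, h1, h2, h3,
    h4, isPullback_descend d⟩

end Groth.L24.SubQuot
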